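import Groth.Agent.GeomRegH.Basic
import Mathlib.AlgebraicGeometry.Morphisms.Smooth

/-! Stalks of schemes smooth over a field are regular. -/

set_option autoImplicit false
set_option backward.isDefEq.respectTransparency false
set_option backward.isDefEq.respectTransparency.types false

universe u

open CategoryTheory AlgebraicGeometry Opposite

namespace Groth.Agent.CurveSub

theorem isRegularLocalRing_stalk {k : Type u} [Field k] {X : Scheme.{u}}
    (f : X ⟶ Spec (CommRingCat.of k)) [Smooth f] (x : X) :
    IsRegularLocalRing (X.presheaf.stalk x) := by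
  obtain ⟨U, hU, hxU, -⟩ := exists_isAffineOpen_mem_and_subset (U := (⊤ : X.Opens)) (x := x) trivial
  let A := Γ(X, U)
  letI : Algebra k A := (((Scheme.ΓSpecIso (CommRingCat.of k)).inv ≫ f.appLE ⊤ U le_top)).hom.toAlgebra
  have : Algebra.Smooth k A := by
    refine (RingHom.smooth_algebraMap).1 ?_
    exact RingHom.Smooth.respectsIso.2 (f.appLE ⊤ U le_top).hom (Scheme.ΓSpecIso (CommRingCat.of k)).symm.commRingCatIsoToRingEquiv
      (f.smooth_appLE (isAffineOpen_top _) hU le_top)
  have : IsRegularRing A := Groth.Agent.GeomRegH.isRegularRing_of_smooth k A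
  let p := (hU.primeIdealOf ⟨x, hxU⟩).asIdeal
  letI : Algebra A (X.presheaf.stalk x) := (X.presheaf.germ U x hxU).hom.toAlgebra
  have hloc : IsLocalization.AtPrime (X.presheaf.stalk x) p := hU.isLocalization_stalk ⟨x, hxU⟩
  have := IsRegularRing.isRegularLocalRing_localization (R := A) p
  exact IsRegularLocalRing.of_ringEquiv (IsLocalization.algEquiv p.primeCompl (Localization.AtPrime p) _).toRingEquiv

end Groth.Agent.CurveSub
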