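import Groth.Agent.CurveDeg.DegTensor
import Groth.Agent.CurveDeg.Curve
import Groth.Agent.CurveDeg.DegExact
import Groth.Agent.FlatOverBC.Free
import Groth.Agent.CurveSub.SmoothRegular
import Mathlib.AlgebraicGeometry.AlgClosed.Basic
import Mathlib.RingTheory.DiscreteValuationRing.TFAE
import Mathlib.LinearAlgebra.FreeModule.PID

/-! Coherent subsheaves of vector bundles on smooth curves are vector bundles. -/

set_option autoImplicit false
set_option backward.isDefEq.respectTransparency false
set_option backward.isDefEq.respectTransparency.types false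

noncomputable section

universe u

open CategoryTheory Limits AlgebraicGeometry Opposite TopologicalSpace Groth.Agent.QCohBase

namespace Groth.Agent.CurveSub

variable {k : Type u} [Field k] {X : Scheme.{u}} [X.Over (Spec (CommRingCat.of k))]
  [IsProper (X ↘ Spec (CommRingCat.of k))] [Smooth (X ↘ Spec (CommRingCat.of k))] [IsIntegral X]
  (hdim : topologicalKrullDim X = 1)

include k hdim in
theorem stalk_pir (x : X) : IsPrincipalIdealRing (X.presheaf.stalk x) := by
  let q := X ↘ Spec (CommRingCat.of k)
  have := CurveDeg.isNoetherian_of_proper (k := k) (X := X)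
  by_cases hη : x = genericPoint X
  · subst hη
    letI : Field (X.presheaf.stalk (genericPoint X)) := inferInstanceAs (Field X.functionField)
    exact inferInstance
  have hx : IsClosed ({x} : Set X) := VarLib.isClosed_singleton_of_dim_le_one hdim.le hη
  have hreg : IsRegularLocalRing (X.presheaf.stalk x) :=
    isRegularLocalRing_stalk q x
  have hd : ringKrullDim (X.presheaf.stalk x) ≤ 1 := by
    rw [ringKrullDim_stalk_eq_coheight, ← hdim]
    calc ((Order.coheight x : ℕ∞) : WithBot ℕ∞) ≤ Order.krullDim X := Order.coheight_le_krullDim x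
      _ = topologicalKrullDim X := (Order.krullDim_eq_of_orderIso irreducibleSetEquivPoints).symm
  rw [← hreg.spanFinrank_maximalIdeal] at hd
  have h1 : (IsLocalRing.maximalIdeal (X.presheaf.stalk x)).spanFinrank ≤ 1 := by exact_mod_cast hd
  refine ((tfae_of_isNoetherianRing_of_isLocalRing_of_isDomain (R := X.presheaf.stalk x)).out 0 4).2 ?_
  let m := IsLocalRing.maximalIdeal (X.presheaf.stalk x)
  have hfg : m.FG := IsNoetherian.noetherian m
  rcases Nat.le_one_iff_eq_zero_or_eq_one.1 h1 with h | h
  · refine ⟨⟨0, ?_⟩⟩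
    show m = _
    rw [(Submodule.spanFinrank_eq_zero_iff_eq_bot hfg).1 h, Submodule.span_zero_singleton]
  · obtain ⟨a, ha⟩ : ∃ a, m.generators = {a} := by
      rw [← Set.ncard_eq_one, Submodule.FG.generators_ncard hfg]; exact h
    exact ⟨⟨a, by rw [← ha, Submodule.span_generators]⟩⟩

include k hdim in
theorem free_stalk {E G : X.Modules} {r : ℕ} (hE : FlatMod.IsFinLocFreeOfRank r E) (hG : Coh.IsCoh G)
    (f : G ⟶ E) [Mono f] (x : X) : Module.Free (X.presheaf.stalk x) (G.presheaf.stalk x) := by
  have := CurveDeg.isNoetherian_of_proper (k := k) (X := X)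
  have := stalk_pir (k := k) hdim x
  haveI : Module.Finite (X.presheaf.stalk x) (G.presheaf.stalk x) := QuasiFlatLib.finite_stalk _ hG x
  haveI : Module.Finite (X.presheaf.stalk x) (E.presheaf.stalk x) :=
    QuasiFlatLib.finite_stalk _ (CurveDeg.isCoh_of_rank hE) x
  haveI := FinLocFreeSections.flat_stalk E (TensorMod.isFinLocFree_of_rank hE) x
  haveI : Module.Free (X.presheaf.stalk x) (E.presheaf.stalk x) := Module.free_of_flat_of_isLocalRing
  let g : G.presheaf.stalk x →ₗ[X.presheaf.stalk x] E.presheaf.stalk x := ((DerSch.stalkFunctor X x).map f).hom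
  have hg : Function.Injective g :=
    (ModuleCat.mono_iff_injective _).1 ((DerSch.stalkFunctor X x).map_mono f)
  haveI : Module.IsTorsionFree (X.presheaf.stalk x) (G.presheaf.stalk x) :=
    hg.moduleIsTorsionFree g (map_smul g)
  exact Module.free_of_finite_type_torsion_free'

include k hdim in
/-- Coherent subsheaves of a vector bundle are vector bundles of the generic rank. -/
theorem isFinLocFreeOfRank_sub {E G : X.Modules} {r : ℕ} (hE : FlatMod.IsFinLocFreeOfRank r E)
    (hG : Coh.IsCoh G) (f : G ⟶ E) [Mono f] :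
    FlatMod.IsFinLocFreeOfRank (CurveDeg.gRank G) G := by
  have := CurveDeg.isNoetherian_of_proper (k := k) (X := X)
  haveI : G.IsQuasicoherent := hG.1
  have hFP : CohB1.IsFP G := isFinitePresentation_of_affine G fun x => by
    obtain ⟨_, ⟨U, hU, rfl⟩, hx, -⟩ :=
      X.isBasis_affineOpens.exists_subset_of_mem_open (Set.mem_univ x) isOpen_univ
    haveI := isNoetherianRing_sections (X := X) hU
    haveI := isFiniteType_toFinite hG hU
    exact ⟨U, hU, hx, Module.finitePresentation_of_finite _ _⟩
  intro x
  haveI := free_stalk (k := k) hdim hE hG f x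
  obtain ⟨V, n, hxV, ⟨t⟩⟩ := FlatOverBC.exists_iso_freeMod G hFP x inferInstance
  refine ⟨V, hxV, ?_⟩
  suffices hn : n = CurveDeg.gRank G by subst hn; exact ⟨t⟩
  obtain ⟨e, he⟩ := FrameHom.exists_isBasisOn_of_triv t
  let y := genericPoint X
  obtain ⟨U, hU, hxU, hUV⟩ := Opens.isBasis_iff_nbhd.1 X.isBasis_affineOpens hxV
  have hy : y ∈ U := (genericPoint_specializes x).mem_open U.2 hxU
  let b := Module.Basis.ofEquivFun (CurveDeg.basisEquiv (he.res hUV)).symm
  letI := FlatOver.germModule G y hy
  letI : Algebra Γ(X, U) (X.presheaf.stalk y) := (X.presheaf.germ U y hy).hom.toAlgebra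
  haveI : IsLocalization.AtPrime (X.presheaf.stalk y) (hU.primeIdealOf ⟨y, hy⟩).asIdeal :=
    hU.isLocalization_stalk ⟨y, hy⟩
  haveI : IsScalarTower Γ(X, U) (X.presheaf.stalk y) (G.presheaf.stalk y) :=
    .of_algebraMap_smul fun r z => rfl
  haveI := FlatOver.isLocalizedModule_germₗ G hU y hy
  let b' := b.ofIsLocalizedModule (X.presheaf.stalk y)
    (hU.primeIdealOf ⟨y, hy⟩).asIdeal.primeCompl (FlatOver.germₗ G y hy)
  rw [CurveDeg.gRank, Module.finrank_eq_card_basis b', Fintype.card_fin]

include k hdim in
/-- Euler characteristic of the kernel/image decomposition, in degrees. -/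
theorem exists_image_data {E F : X.Modules} {r s : ℕ} (hE : FlatMod.IsFinLocFreeOfRank r E)
    (hF : FlatMod.IsFinLocFreeOfRank s F) (f : E ⟶ F) :
    ∃ a b : ℕ, FlatMod.IsFinLocFreeOfRank a (kernel f) ∧ FlatMod.IsFinLocFreeOfRank b (Abelian.image f) ∧
      a + b = r ∧ b ≤ s ∧
      Curv2.deg k X E r = Curv2.deg k X (kernel f) a + Curv2.deg k X (Abelian.image f) b ∧
      (b = 0 → f = 0) ∧ (a = 0 → Mono f) := by
  have := CurveDeg.isNoetherian_of_proper (k := k) (X := X)
  have hEc := CurveDeg.isCoh_of_rank hE
  have hFc := CurveDeg.isCoh_of_rank hF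
  have hK : Coh.IsCoh (kernel f) := isCoh_kernel f hEc hFc.1
  have hI : Coh.IsCoh (Abelian.image f) :=
    isCoh_kernel _ hFc (isCoh_cokernel f hEc.1 hFc).1
  have hKl := isFinLocFreeOfRank_sub (k := k) hdim hE hK (kernel.ι f)
  have hIl := isFinLocFreeOfRank_sub (k := k) hdim hF hI (Abelian.image.ι f)
  let T := ShortComplex.mk (kernel.ι f) (Abelian.factorThruImage f) (by
    rw [← cancel_mono (Abelian.image.ι f), Category.assoc, Abelian.image.fac, kernel.condition, zero_comp])
  have hT : T.ShortExact :=
    haveI : Mono T.f := inferInstanceAs (Mono (kernel.ι f))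
    haveI : Epi T.g := inferInstanceAs (Epi (Abelian.factorThruImage f))
    { exact := ShortComplex.exact_of_f_is_kernel _ (KernelFork.IsLimit.ofι' _ _ fun t ht =>
        ⟨kernel.lift f t (by
          rw [← Abelian.image.fac f, ← Category.assoc]
          exact (congrArg (· ≫ Abelian.image.ι f) ht).trans zero_comp), kernel.lift_ι _ _ _⟩) }
  have hzero : ∀ {M : X.Modules}, FlatMod.IsFinLocFreeOfRank 0 M → IsZero M := fun {M} hM => by
    rw [IsZero.iff_id_eq_zero]
    refine Scheme.Modules.hom_ext _ _ fun U => ?_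
    ext m
    refine CurveDeg.eq_zero_of_disjoint _ _ fun y _ hy => hy ?_
    haveI : Module.Finite (X.presheaf.stalk y) (M.presheaf.stalk y) :=
      QuasiFlatLib.finite_stalk _ (CurveDeg.isCoh_of_rank hM) y
    haveI := FinLocFreeSections.flat_stalk M (TensorMod.isFinLocFree_of_rank hM) y
    haveI : Module.Free (X.presheaf.stalk y) (M.presheaf.stalk y) := Module.free_of_flat_of_isLocalRing
    exact Module.finrank_zero_iff.1 (CurveDeg.finrank_stalk hM y)
  refine ⟨_, _, hKl, hIl, ?_, ?_, ?_, fun hb => ?_, fun ha => ?_⟩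
  · exact (CurveDeg.rank_add_of_shortExact hT hKl hE hIl).symm
  · let T' := ShortComplex.mk (Abelian.image.ι f) (cokernel.π (Abelian.image.ι f)) (cokernel.condition _)
    have hT' : T'.ShortExact :=
      haveI : Mono T'.f := inferInstanceAs (Mono (Abelian.image.ι f))
      haveI : Epi T'.g := inferInstanceAs (Epi (cokernel.π _))
      { exact := ShortComplex.exact_of_g_is_cokernel _ (cokernelIsCokernel _) }
    have h := CurveDeg.gRank_add hT' hI hFc (isCoh_cokernel _ hI.1 hFc)
    change CurveDeg.gRank F = _ + _ at h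
    rw [show CurveDeg.gRank F = s from CurveDeg.finrank_stalk hF _] at h
    change s = CurveDeg.gRank (Abelian.image f) + _ at h
    omega
  · exact CurveDeg.deg_shortExact T hT hKl hE hIl
  · rw [← Abelian.image.fac f, (hzero (hb ▸ hIl)).eq_zero_of_src (Abelian.image.ι f), comp_zero]
  · exact Preadditive.mono_of_isZero_kernel f (hzero (ha ▸ hKl))

include k hdim in
/-- A monomorphism of bundles of the same rank and degree is an isomorphism. -/
theorem isIso_of_mono {E F : X.Modules} {r : ℕ} (hE : FlatMod.IsFinLocFreeOfRank r E)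
    (hF : FlatMod.IsFinLocFreeOfRank r F) (f : E ⟶ F) [Mono f] :
    Curv2.deg k X E r ≤ Curv2.deg k X F r ∧ (Curv2.deg k X E r = Curv2.deg k X F r → IsIso f) := by
  have := CurveDeg.isNoetherian_of_proper (k := k) (X := X)
  have hEc := CurveDeg.isCoh_of_rank hE
  have hFc := CurveDeg.isCoh_of_rank hF
  have hQ : Coh.IsCoh (cokernel f) := isCoh_cokernel f hEc.1 hFc
  let T := ShortComplex.mk f (cokernel.π f) (cokernel.condition f)
  have hT : T.ShortExact :=
    haveI : Mono T.f := inferInstanceAs (Mono f)
    haveI : Epi T.g := inferInstanceAs (Epi (cokernel.π f))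
    { exact := ShortComplex.exact_of_g_is_cokernel _ (cokernelIsCokernel f) }
  have hr := CurveDeg.gRank_add hT hEc hFc hQ
  change CurveDeg.gRank F = CurveDeg.gRank E + CurveDeg.gRank (cokernel f) at hr
  rw [show CurveDeg.gRank F = r from CurveDeg.finrank_stalk hF _,
    show CurveDeg.gRank E = r from CurveDeg.finrank_stalk hE _] at hr
  have hη : genericPoint X ∉ CohB1.support (cokernel f) := fun hmem => hmem (by
    letI : Field (X.presheaf.stalk (genericPoint X)) := inferInstanceAs (Field X.functionField)
    haveI : Module.Finite (X.presheaf.stalk (genericPoint X)) ((cokernel f).presheaf.stalk (genericPoint X)) :=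
      QuasiFlatLib.finite_stalk _ hQ _
    exact Module.finrank_zero_iff.1 (show CurveDeg.gRank (cokernel f) = 0 by omega))
  obtain ⟨hfin, hcl⟩ := CurveDeg.finite_closed (k := k) hdim.le (QCohBase.isClosed_support _ hQ.2) hη
  have he := CurveDeg.euler_additive (k := k) T hT hEc hFc hQ
  change Curv2.euler k X F = Curv2.euler k X E + Curv2.euler k X (cokernel f) at he
  rw [CurveDeg.euler_of_finite_support (k := k) hQ hfin hcl subset_rfl] at he
  rw [Curv2.deg, Curv2.deg]
  refine ⟨by omega, fun heq => ?_⟩
  have hempty : CohB1.support (cokernel f) = ∅ := by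
    by_contra hne
    have := CurveDeg.finrank_HH0_pos (k := k) hQ hfin hcl subset_rfl (Set.nonempty_iff_ne_empty.2 hne)
    omega
  have hz : IsZero (cokernel f) := by
    rw [IsZero.iff_id_eq_zero]
    refine Scheme.Modules.hom_ext _ _ fun U => ?_
    ext m
    exact CurveDeg.eq_zero_of_disjoint _ _ fun y _ hy => (hempty.le hy).elim
  haveI : Epi f := Abelian.epi_of_cokernel_π_eq_zero f (hz.eq_of_tgt _ _)
  exact isIso_of_mono_of_epi f

end Groth.Agent.CurveSub
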