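import Groth.Agent.S2280
import Groth.Agent.S0558
import Groth.Agent.CurveSub.SmoothRegular
import Mathlib.AlgebraicGeometry.Geometrically.Connected

/-! Smooth geometrically connected schemes over a field are integral. -/

set_option autoImplicit false

universe u

open CategoryTheory AlgebraicGeometry

namespace Groth.Agent.CurveSub

theorem isIntegral_of_smooth_geometricallyConnected {k : Type u} [Field k] {X : Scheme.{u}}
    (q : X ⟶ Spec (CommRingCat.of k)) [Smooth q] [QuasiCompact q] [GeometricallyConnected q] : IsIntegral X := by
  haveI : LocallyOfFiniteType q := inferInstance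
  haveI : IsLocallyNoetherian X := LocallyOfFiniteType.isLocallyNoetherian q
  haveI hc : ConnectedSpace X := GeometricallyConnected.connectedSpace_of_subsingleton q
  refine ((Groth.Agent.S2280.result X).2).2 ⟨hc, fun x => ?_⟩
  haveI := isRegularLocalRing_stalk q x
  exact Groth.Agent.S0558.result _

end Groth.Agent.CurveSub
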