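import Groth.Agent.CurveSub.Quot

/-! Preimages of subbundles of a quotient. -/

set_option autoImplicit false
set_option backward.isDefEq.respectTransparency false
set_option backward.isDefEq.respectTransparency.types false

noncomputable section

universe u

open CategoryTheory Limits AlgebraicGeometry Opposite TopologicalSpace Groth.Agent.QCohBase

namespace Groth.Agent.CurveSub

variable {k : Type u} [Field k] {X : Scheme.{u}} [X.Over (Spec (CommRingCat.of k))]
  [IsProper (X ↘ Spec (CommRingCat.of k))] [Smooth (X ↘ Spec (CommRingCat.of k))] [IsIntegral X]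
  (hdim : topologicalKrullDim X = 1)

include k hdim in
/-- The preimage in `F` of a subbundle of `F/I` is a subbundle; ranks and degrees add. -/
theorem exists_preimage {I F G : X.Modules} {b s n : ℕ} (hI : FlatMod.IsFinLocFreeOfRank b I)
    (hF : FlatMod.IsFinLocFreeOfRank s F) (hG : FlatMod.IsFinLocFreeOfRank n G) (i : I ⟶ F) [Mono i]
    (j : G ⟶ cokernel i) [Mono j] :
    ∃ (P : X.Modules) (p : P ⟶ F), Mono p ∧ FlatMod.IsFinLocFreeOfRank (b + n) P ∧
      Curv2.deg k X P (b + n) = Curv2.deg k X I b + Curv2.deg k X G n := by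
  have := CurveDeg.isNoetherian_of_proper (k := k) (X := X)
  have hFc := CurveDeg.isCoh_of_rank hF
  have hQc : Coh.IsCoh (cokernel i) := isCoh_cokernel i (CurveDeg.isCoh_of_rank hI).1 hFc
  let P := kernel (cokernel.π i ≫ cokernel.π j)
  let φ : P ⟶ G := Abelian.monoLift j (kernel.ι _ ≫ cokernel.π i)
    (by rw [Category.assoc]; exact kernel.condition _)
  have hφ : φ ≫ j = kernel.ι (cokernel.π i ≫ cokernel.π j) ≫ cokernel.π i := Abelian.monoLift_comp _ _ _
  haveI : Epi φ := by
    let l : pullback (cokernel.π i) j ⟶ P := kernel.lift _ (pullback.fst _ _) (by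
      rw [pullback.condition_assoc, cokernel.condition, comp_zero])
    have hl : l ≫ φ = pullback.snd (cokernel.π i) j := by
      rw [← cancel_mono j, Category.assoc, hφ, ← Category.assoc,
        show l ≫ kernel.ι _ = pullback.fst (cokernel.π i) j from kernel.lift_ι _ _ _, pullback.condition]
    exact epi_of_epi_fac hl
  have hPc : Coh.IsCoh P := isCoh_kernel _ hFc (isCoh_cokernel j (CurveDeg.isCoh_of_rank hG).1 hQc).1
  have hP := isFinLocFreeOfRank_sub (k := k) hdim hF hPc (kernel.ι _)
  let α : I ⟶ P := kernel.lift _ i (by simp)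
  have hα : α ≫ kernel.ι (cokernel.π i ≫ cokernel.π j) = i := kernel.lift_ι _ _ _
  haveI : Mono α := mono_of_mono_fac hα
  let T := ShortComplex.mk α φ (by
    rw [← cancel_mono j, Category.assoc, hφ, ← Category.assoc, hα, cokernel.condition, zero_comp])
  have hT : T.ShortExact :=
    { exact := ShortComplex.exact_of_f_is_kernel _ (KernelFork.IsLimit.ofι' _ _ fun t ht =>
        ⟨Abelian.monoLift i (t ≫ kernel.ι (cokernel.π i ≫ cokernel.π j)) (by
          rw [Category.assoc, ← hφ, reassoc_of% ht, zero_comp]), by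
          rw [← cancel_mono (kernel.ι (cokernel.π i ≫ cokernel.π j))]
          change (_ ≫ α) ≫ _ = _
          rw [Category.assoc, hα, Abelian.monoLift_comp]⟩)
      mono_f := inferInstanceAs (Mono α)
      epi_g := inferInstanceAs (Epi φ) }
  have hrP : CurveDeg.gRank P = b + n := CurveDeg.rank_add_of_shortExact hT hI hP hG
  have hP' : FlatMod.IsFinLocFreeOfRank (b + n) P := hrP ▸ hP
  exact ⟨P, kernel.ι _, inferInstance, hP', CurveDeg.deg_shortExact (k := k) T hT hI hP' hG⟩

include k hdim in
/-- The quotient by a subbundle of maximal degree in its rank is a bundle. -/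
theorem isFinLocFreeOfRank_cokernel {I F : X.Modules} {b s : ℕ} (hI : FlatMod.IsFinLocFreeOfRank b I)
    (hF : FlatMod.IsFinLocFreeOfRank s F) (i : I ⟶ F) [Mono i]
    (hmax : ∀ (G : X.Modules) (j : G ⟶ F), Mono j → FlatMod.IsFinLocFreeOfRank b G →
      Curv2.deg k X G b ≤ Curv2.deg k X I b) :
    ∃ c, FlatMod.IsFinLocFreeOfRank c (cokernel i) := by
  have := CurveDeg.isNoetherian_of_proper (k := k) (X := X)
  let e : kernel (cokernel.π i) ≅ I :=
    { hom := Abelian.monoLift i (kernel.ι _) (kernel.condition _)
      inv := kernel.lift _ i (cokernel.condition i)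
      hom_inv_id := by rw [← cancel_mono (kernel.ι (cokernel.π i)), Category.assoc, kernel.lift_ι,
        Abelian.monoLift_comp, Category.id_comp]
      inv_hom_id := by rw [← cancel_mono i, Category.assoc, Abelian.monoLift_comp, kernel.lift_ι,
        Category.id_comp] }
  have hK : FlatMod.IsFinLocFreeOfRank b (kernel (cokernel.π i)) :=
    TensorMod.isFinLocFreeOfRank_of_iso e.symm hI
  have hle := (isIso_of_mono (k := k) hdim hI hK e.inv).1
  exact ⟨_, isFinLocFreeOfRank_quot (k := k) hdim hF (cokernel.π i)
    (isCoh_cokernel i (CurveDeg.isCoh_of_rank hI).1 (CurveDeg.isCoh_of_rank hF)) hK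
    fun G j hj hG => (hmax G j hj hG).trans hle⟩

end Groth.Agent.CurveSub
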