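import Groth.Agent.CurveSub.Basic
import Groth.Agent.QCohBase.Qcqs
import Groth.Agent.DCohBridge.StalkExact
import Groth.Prelude.Def_ModFun2
import Groth.Prelude.Def_MeroDiv

/-! Images of maximal slope in semistable bundles are saturated, so the quotient is a bundle. -/

set_option autoImplicit false
set_option backward.isDefEq.respectTransparency false
set_option backward.isDefEq.respectTransparency.types false

noncomputable section

universe u

open CategoryTheory Limits AlgebraicGeometry Opposite TopologicalSpace Groth.Agent.QCohBase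

namespace Groth.Agent.CurveSub

variable {k : Type u} [Field k] {X : Scheme.{u}} [X.Over (Spec (CommRingCat.of k))]
  [IsProper (X ↘ Spec (CommRingCat.of k))] [Smooth (X ↘ Spec (CommRingCat.of k))] [IsIntegral X]
  (hdim : topologicalKrullDim X = 1)

theorem isZero_of_rank_zero [IsLocallyNoetherian X] {M : X.Modules}
    (hM : FlatMod.IsFinLocFreeOfRank 0 M) : IsZero M := by
  rw [IsZero.iff_id_eq_zero]
  refine Scheme.Modules.hom_ext _ _ fun U => ?_
  ext m
  refine CurveDeg.eq_zero_of_disjoint _ _ fun y _ hy => hy ?_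
  haveI : Module.Finite (X.presheaf.stalk y) (M.presheaf.stalk y) :=
    QuasiFlatLib.finite_stalk _ (CurveDeg.isCoh_of_rank hM) y
  haveI := FinLocFreeSections.flat_stalk M (TensorMod.isFinLocFree_of_rank hM) y
  haveI : Module.Free (X.presheaf.stalk y) (M.presheaf.stalk y) := Module.free_of_flat_of_isLocalRing
  exact Module.finrank_zero_iff.1 (CurveDeg.finrank_stalk hM y)

include k hdim in
theorem deg_rank_zero {M : X.Modules} (hM : FlatMod.IsFinLocFreeOfRank 0 M) :
    Curv2.deg k X M 0 = 0 := by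
  have := CurveDeg.isNoetherian_of_proper (k := k) (X := X)
  have hz := isZero_of_rank_zero hM
  let T := ShortComplex.mk (0 : M ⟶ M) (0 : M ⟶ M) comp_zero
  have hT : T.ShortExact :=
    haveI : Mono T.f := ⟨fun {W} a b _ => hz.eq_of_tgt a b⟩
    haveI : Epi T.g := ⟨fun {W} a b _ => hz.eq_of_src a b⟩
    { exact := ShortComplex.exact_of_isZero_X₂ _ hz }
  have h := CurveDeg.deg_shortExact (k := k) T hT (n₁ := 0) (n₂ := 0) (n₃ := 0) hM hM hM
  change Curv2.deg k X M 0 = Curv2.deg k X M 0 + Curv2.deg k X M 0 at h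
  omega

theorem shortExact_kernel_of_epi {E Q : X.Modules} (π : E ⟶ Q) [Epi π] :
    (ShortComplex.mk (kernel.ι π) π (kernel.condition π)).ShortExact :=
  { exact := ShortComplex.exact_of_f_is_kernel _ (kernelIsKernel π)
    mono_f := inferInstanceAs (Mono (kernel.ι π))
    epi_g := inferInstanceAs (Epi π) }

include k hdim in
/-- A coherent module with free stalks is a bundle of the generic rank. -/
theorem isFinLocFreeOfRank_of_free {G : X.Modules} (hG : Coh.IsCoh G)
    (hfree : ∀ x : X, Module.Free (X.presheaf.stalk x) (G.presheaf.stalk x)) :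
    FlatMod.IsFinLocFreeOfRank (CurveDeg.gRank G) G := by
  have := CurveDeg.isNoetherian_of_proper (k := k) (X := X)
  haveI : G.IsQuasicoherent := hG.1
  have hFP : CohB1.IsFP G := isFinitePresentation_of_affine G fun x => by
    obtain ⟨_, ⟨U, hU, rfl⟩, hx, -⟩ :=
      X.isBasis_affineOpens.exists_subset_of_mem_open (Set.mem_univ x) isOpen_univ
    haveI := isNoetherianRing_sections (X := X) hU
    haveI := isFiniteType_toFinite hG hU
    exact ⟨U, hU, hx, Module.finitePresentation_of_finite _ _⟩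
  intro x
  haveI := hfree x
  obtain ⟨V, n, hxV, ⟨t⟩⟩ := FlatOverBC.exists_iso_freeMod G hFP x inferInstance
  refine ⟨V, hxV, ?_⟩
  suffices hn : n = CurveDeg.gRank G by subst hn; exact ⟨t⟩
  obtain ⟨e, he⟩ := FrameHom.exists_isBasisOn_of_triv t
  let y := genericPoint X
  obtain ⟨U, hU, hxU, hUV⟩ := Opens.isBasis_iff_nbhd.1 X.isBasis_affineOpens hxV
  have hy : y ∈ U := (genericPoint_specializes x).mem_open U.2 hxU
  let b := Module.Basis.ofEquivFun (CurveDeg.basisEquiv (he.res hUV)).symm
  letI := FlatOver.germModule G y hy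
  letI : Algebra Γ(X, U) (X.presheaf.stalk y) := (X.presheaf.germ U y hy).hom.toAlgebra
  haveI : IsLocalization.AtPrime (X.presheaf.stalk y) (hU.primeIdealOf ⟨y, hy⟩).asIdeal :=
    hU.isLocalization_stalk ⟨y, hy⟩
  haveI : IsScalarTower Γ(X, U) (X.presheaf.stalk y) (G.presheaf.stalk y) :=
    .of_algebraMap_smul fun r z => rfl
  haveI := FlatOver.isLocalizedModule_germₗ G hU y hy
  let b' := b.ofIsLocalizedModule (X.presheaf.stalk y)
    (hU.primeIdealOf ⟨y, hy⟩).asIdeal.primeCompl (FlatOver.germₗ G y hy)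
  rw [CurveDeg.gRank, Module.finrank_eq_card_basis b', Fintype.card_fin]

theorem stalkMapAb_germ {M N : X.Modules} (φ : M ⟶ N) {U : X.Opens} (y : X) (hy : y ∈ U)
    (m : Γ(M, U)) : Algz.stalkMapAb φ y (M.presheaf.germ U y hy m) = N.presheaf.germ U y hy (φ.app U m) := by
  dsimp only [Algz.stalkMapAb]
  erw [TopCat.Presheaf.stalkFunctor_map_germ_apply]
  rfl

include k hdim in
/-- If the kernel `I` of an epimorphism from a bundle has the maximal degree among subbundles of its
rank, then the target is a bundle. -/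
theorem isFinLocFreeOfRank_quot {F Q : X.Modules} {s b : ℕ} (hF : FlatMod.IsFinLocFreeOfRank s F)
    (π : F ⟶ Q) [Epi π] (hQ : Coh.IsCoh Q) (hI : FlatMod.IsFinLocFreeOfRank b (kernel π))
    (hmax : ∀ (G : X.Modules) (j : G ⟶ F), Mono j → FlatMod.IsFinLocFreeOfRank b G →
      Curv2.deg k X G b ≤ Curv2.deg k X (kernel π) b) :
    FlatMod.IsFinLocFreeOfRank (CurveDeg.gRank Q) Q := by
  have := CurveDeg.isNoetherian_of_proper (k := k) (X := X)
  refine isFinLocFreeOfRank_of_free (k := k) hdim hQ fun x => ?_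
  haveI : Module.Finite (X.presheaf.stalk x) (Q.presheaf.stalk x) := QuasiFlatLib.finite_stalk _ hQ x
  haveI := stalk_pir (k := k) hdim x
  by_cases hη : x = genericPoint X
  · subst hη
    letI : Field (X.presheaf.stalk (genericPoint X)) := inferInstanceAs (Field X.functionField)
    exact Module.Free.of_divisionRing _ _
  have hx : IsClosed ({x} : Set X) := VarLib.isClosed_singleton_of_dim_le_one hdim.le hη
  let U : X.Opens := ⟨{x}ᶜ, hx.isOpen_compl⟩
  haveI : NoetherianSpace X := inferInstance
  haveI : NoetherianSpace (U : Scheme.{u}) := NoetherianSpace.set (U : Set X)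
  haveI : QuasiCompact U.ι := ⟨fun s _ _ => NoetherianSpace.isCompact _⟩
  haveI : IsLocallyNoetherian (U : Scheme.{u}) := LocallyOfFiniteType.isLocallyNoetherian U.ι
  haveI : Q.IsQuasicoherent := hQ.1
  haveI : (Q.restrict U.ι).IsQuasicoherent := inferInstance
  let u : Q ⟶ (Scheme.Modules.pushforward U.ι).obj (Q.restrict U.ι) :=
    (Scheme.Modules.restrictAdjunction U.ι).unit.app Q
  have happ : ∀ (W : X.Opens) (z : Γ(Q, W)),
      u.app W z = Q.presheaf.map (homOfLE (U.ι.image_preimage_le W)).op z := fun W z => rfl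
  have hu : ∀ y ∈ U, Function.Injective (Algz.stalkMapAb u y) := fun y hy => by
    refine (injective_iff_map_eq_zero (Algz.stalkMapAb u y).hom).2 fun z hz => ?_
    obtain ⟨W, hyW, z, rfl⟩ := TopCat.Presheaf.exists_germ_eq Q.presheaf z
    erw [stalkMapAb_germ] at hz
    obtain ⟨W', hyW', i, i', hzz⟩ := TopCat.Presheaf.germ_eq _ y hyW hyW (u.app W z) 0 (hz.trans (map_zero _).symm)
    rw [map_zero] at hzz
    have h0 : u.app W' (Q.presheaf.map i.op z) = 0 := by
      rw [← hzz]
      exact ConcreteCategory.congr_hom (u.mapPresheaf.naturality i.op) z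
    rw [happ] at h0
    have hy' : y ∈ U.ι ''ᵁ (U.ι ⁻¹ᵁ W') := ⟨⟨y, hy⟩, hyW', rfl⟩
    rw [← TopCat.Presheaf.germ_res_apply Q.presheaf i y hyW',
      ← TopCat.Presheaf.germ_res_apply Q.presheaf (homOfLE (U.ι.image_preimage_le W')) y hy']
    erw [h0]
    exact map_zero _
  have hQU : ((Scheme.Modules.pushforward U.ι).obj (Q.restrict U.ι)).IsQuasicoherent :=
    isQuasicoherent_pushforward (Q.restrict U.ι) U.ι
  let G := kernel (π ≫ u)
  let l : kernel π ⟶ G := kernel.lift _ (kernel.ι π) (by simp)
  haveI : Mono l := mono_of_mono_fac (show l ≫ kernel.ι (π ≫ u) = kernel.ι π from kernel.lift_ι _ _ _)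
  have hFc := CurveDeg.isCoh_of_rank hF
  have hG : Coh.IsCoh G := isCoh_kernel _ hFc hQU
  have hηU : genericPoint X ∈ U := fun h => hη (Set.mem_singleton_iff.1 h).symm
  let η := genericPoint X
  let lη : (kernel π).presheaf.stalk η →ₗ[X.presheaf.stalk η] G.presheaf.stalk η :=
    ((DerSch.stalkFunctor X η).map l).hom
  have hlη : Function.Bijective lη := by
    refine ⟨(ModuleCat.mono_iff_injective _).1 ((DerSch.stalkFunctor X η).map_mono l), fun t => ?_⟩
    have hT := (shortExact_kernel_of_epi π).map_of_exact (DerSch.stalkFunctor X η)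
    have h1 : Algz.stalkMapAb π η (Algz.stalkMapAb (kernel.ι (π ≫ u)) η t) = 0 := by
      refine hu η hηU ?_
      rw [map_zero, ← ConcreteCategory.comp_apply, ← ConcreteCategory.comp_apply]
      show (((DerSch.stalkFunctor X η).map (kernel.ι (π ≫ u))) ≫ ((DerSch.stalkFunctor X η).map π ≫
        (DerSch.stalkFunctor X η).map u)).hom t = 0
      rw [← Functor.map_comp, ← Functor.map_comp, kernel.condition, Functor.map_zero]
      rfl
    obtain ⟨t', ht'⟩ := (ShortComplex.moduleCat_exact_iff _).1 hT.exact _ h1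
    refine ⟨t', (ModuleCat.mono_iff_injective _).1
      ((DerSch.stalkFunctor X η).map_mono (kernel.ι (π ≫ u))) ?_⟩
    show (((DerSch.stalkFunctor X η).map l) ≫ (DerSch.stalkFunctor X η).map (kernel.ι (π ≫ u))).hom t' = _
    rw [← Functor.map_comp, show l ≫ kernel.ι (π ≫ u) = kernel.ι π from kernel.lift_ι _ _ _]
    exact ht'
  have hrk : CurveDeg.gRank G = b := by
    rw [← CurveDeg.finrank_stalk hI η]
    exact (LinearEquiv.ofBijective lη hlη).finrank_eq.symm
  have hGl : FlatMod.IsFinLocFreeOfRank b G :=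
    hrk ▸ isFinLocFreeOfRank_sub (k := k) hdim hF hG (kernel.ι _)
  obtain ⟨hle, hiso⟩ := isIso_of_mono (k := k) hdim hI hGl l
  haveI := hiso (le_antisymm hle (hmax G (kernel.ι _) inferInstance hGl))
  haveI : Mono u := by
    refine Preadditive.mono_of_cancel_zero _ fun {W} t ht => ?_
    let p : pullback π t ⟶ G := kernel.lift _ (pullback.fst π t) (by
      rw [pullback.condition_assoc, ht, comp_zero])
    have hp : pullback.fst π t ≫ π = 0 := by
      rw [← show p ≫ kernel.ι (π ≫ u) = pullback.fst π t from kernel.lift_ι _ _ _,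
        ← IsIso.inv_hom_id_assoc l (kernel.ι (π ≫ u)),
        show l ≫ kernel.ι (π ≫ u) = kernel.ι π from kernel.lift_ι _ _ _]
      simp
    haveI : Epi (pullback.snd π t) := inferInstance
    rw [← cancel_epi (pullback.snd π t), ← pullback.condition, hp, comp_zero]
  haveI : Module.IsTorsionFree (X.presheaf.stalk x) (Q.presheaf.stalk x) := by
    refine .of_smul_eq_zero fun a m ham => or_iff_not_imp_left.2 fun ha => ?_
    obtain ⟨V₁, hx₁, a₁, rfl⟩ := TopCat.Presheaf.exists_germ_eq X.presheaf a
    obtain ⟨V₂, hx₂, m₂, rfl⟩ := TopCat.Presheaf.exists_germ_eq Q.presheaf m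
    let V := V₁ ⊓ V₂
    have hxV : x ∈ V := ⟨hx₁, hx₂⟩
    rw [← TopCat.Presheaf.germ_res_apply X.presheaf (homOfLE (inf_le_left : V ≤ V₁)) x hxV] at ha ham
    rw [← TopCat.Presheaf.germ_res_apply Q.presheaf (homOfLE (inf_le_right : V ≤ V₂)) x hxV] at ham ⊢
    generalize X.presheaf.map (homOfLE (inf_le_left : V ≤ V₁)).op a₁ = a at ha ham
    generalize Q.presheaf.map (homOfLE (inf_le_right : V ≤ V₂)).op m₂ = m at ham ⊢
    rw [← Mero.germ_smul] at ham
    obtain ⟨V', hxV', i, i', ham'⟩ := TopCat.Presheaf.germ_eq _ x hxV hxV (a • m) 0 (ham.trans (map_zero _).symm)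
    rw [map_zero] at ham'
    have hyV : η ∈ V' := (genericPoint_specializes x).mem_open V'.2 hxV'
    have hm0 : Q.presheaf.germ V η (i.le hyV) m = 0 := by
      have h2 : X.presheaf.germ V η (i.le hyV) a • Q.presheaf.germ V η (i.le hyV) m = 0 := by
        rw [← Mero.germ_smul, ← TopCat.Presheaf.germ_res_apply Q.presheaf i η hyV, ham']
        exact map_zero _
      letI : Field (X.presheaf.stalk η) := inferInstanceAs (Field X.functionField)
      refine (smul_eq_zero.1 h2).resolve_left fun h3 => ha ?_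
      have h4 : a = 0 := germ_injective_of_isIntegral X η (i.le hyV) (h3.trans (map_zero _).symm)
      rw [h4]; exact map_zero _
    obtain ⟨N, hyN, j, j', hm1⟩ := TopCat.Presheaf.germ_eq _ η (i.le hyV) (i.le hyV) m 0 (hm0.trans (map_zero _).symm)
    rw [map_zero] at hm1
    obtain ⟨hfin, hcl⟩ := CurveDeg.finite_closed (k := k) hdim.le N.2.isClosed_compl fun h => h hyN
    have hZ : IsClosed ((N : Set X)ᶜ \ {x}) := by
      have hf := hfin.subset (Set.sdiff_subset (t := {x}))
      rw [← Set.biUnion_of_singleton ((N : Set X)ᶜ \ {x})]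
      exact hf.isClosed_biUnion fun y hy => hcl y hy.1
    let V'' : X.Opens := V ⊓ ⟨_, hZ.isOpen_compl⟩
    have hxV'' : x ∈ V'' := ⟨hxV, fun h => h.2 rfl⟩
    have hu0 : u.app V'' (Q.presheaf.map (homOfLE (inf_le_left : V'' ≤ V)).op m) = 0 := by
      rw [happ]
      have hle : U.ι ''ᵁ (U.ι ⁻¹ᵁ V'') ≤ N := by
        rintro y ⟨y', hy', rfl⟩
        by_contra hN
        exact hy'.2 ⟨hN, y'.2⟩
      rw [← ConcreteCategory.comp_apply, ← Functor.map_comp]
      show Q.presheaf.map (homOfLE hle ≫ j).op m = 0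
      rw [op_comp, Functor.map_comp, ConcreteCategory.comp_apply]
      erw [hm1]
      exact map_zero _
    rw [← TopCat.Presheaf.germ_res_apply Q.presheaf (homOfLE (inf_le_left : V'' ≤ V)) x hxV'']
    refine (ModuleCat.mono_iff_injective _).1 ((DerSch.stalkFunctor X x).map_mono u) ?_
    rw [map_zero]
    show Algz.stalkMapAb u x _ = 0
    erw [stalkMapAb_germ, hu0]
    exact map_zero _
  exact Module.free_of_finite_type_torsion_free'

end Groth.Agent.CurveSub
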