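import Groth.Agent.CurveSub.Preimage
import Groth.Agent.CurveBound.Basic

/-! Maximal-degree subbundles of a given rank; rank of zero bundles. -/

set_option autoImplicit false
set_option backward.isDefEq.respectTransparency false
set_option backward.isDefEq.respectTransparency.types false

noncomputable section

universe u

open CategoryTheory Limits AlgebraicGeometry Opposite TopologicalSpace Groth.Agent.QCohBase

namespace Groth.Agent.CurveSub

variable {k : Type u} [Field k] {X : Scheme.{u}} [X.Over (Spec (CommRingCat.of k))]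
  [IsProper (X ↘ Spec (CommRingCat.of k))] [Smooth (X ↘ Spec (CommRingCat.of k))] [IsIntegral X]
  (hdim : topologicalKrullDim X = 1)

theorem rank_eq_zero_of_isZero {M : X.Modules} {n : ℕ} (hz : IsZero M)
    (hM : FlatMod.IsFinLocFreeOfRank n M) : n = 0 := by
  haveI : Subsingleton (M.presheaf.stalk (genericPoint X)) :=
    ModuleCat.subsingleton_of_isZero ((DerSch.stalkFunctor X (genericPoint X)).map_isZero hz)
  rw [← CurveDeg.finrank_stalk hM (genericPoint X), Module.finrank_zero_of_subsingleton]

include k hdim in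
/-- Among the subbundles of rank `n` one has largest degree, and its quotient is a bundle. -/
theorem exists_maxDeg {E G : X.Modules} {r n : ℕ} (hE : FlatMod.IsFinLocFreeOfRank r E)
    (hG : FlatMod.IsFinLocFreeOfRank n G) (i : G ⟶ E) [Mono i] :
    ∃ (M : X.Modules) (j : M ⟶ E), Mono j ∧ FlatMod.IsFinLocFreeOfRank n M ∧
      Curv2.deg k X G n ≤ Curv2.deg k X M n ∧ n ≤ r ∧
      FlatMod.IsFinLocFreeOfRank (r - n) (cokernel j) ∧
      Curv2.deg k X E r = Curv2.deg k X M n + Curv2.deg k X (cokernel j) (r - n) := by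
  classical
  let P : ℤ → Prop := fun z => ∃ (M : X.Modules) (j : M ⟶ E), Mono j ∧
    FlatMod.IsFinLocFreeOfRank n M ∧ z = Curv2.deg k X M n
  haveI : Nonempty X := ⟨genericPoint X⟩
  obtain ⟨ub, ⟨M, j, hj, hM, rfl⟩, hub⟩ := Int.exists_greatest_of_bdd (P := P)
    ⟨_, by rintro z ⟨M, j, hj, hM, rfl⟩; exact @CurveBound.deg_le k _ X _ _ hdim.le _ E M (CurveDeg.isCoh_of_rank hE) n hM j hj⟩
    ⟨_, G, i, inferInstance, hG, rfl⟩
  haveI := hj
  obtain ⟨c, hc⟩ := isFinLocFreeOfRank_cokernel (k := k) hdim hM hE j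
    fun M' j' hj' hM' => hub _ ⟨M', j', hj', hM', rfl⟩
  let T := ShortComplex.mk j (cokernel.π j) (cokernel.condition j)
  have hT : T.ShortExact :=
    { exact := ShortComplex.exact_of_g_is_cokernel _ (cokernelIsCokernel j)
      mono_f := inferInstanceAs (Mono j)
      epi_g := inferInstanceAs (Epi (cokernel.π j)) }
  have hr : r = n + c := CurveDeg.rank_add_of_shortExact hT hM hE hc
  have hc' : c = r - n := by omega
  subst hc'
  exact ⟨M, j, hj, hM, hub _ ⟨G, i, inferInstance, hG, rfl⟩, by omega, hc,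
    CurveDeg.deg_shortExact (k := k) T hT hM hE hc⟩

end Groth.Agent.CurveSub
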